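import Cfsg.Agent.Lib.ThreeTransp.M22OuterInvol
import Cfsg.Agent.Lib.ThreeTransp.Factor.Types
import Cfsg.Agent.Lib.ThreeTransp.PrimLink
import Cfsg.Agent.Lib.ThreeTransp.Connected

/-!
# Type `M(22)` without assuming primitivity

If the commuting graph of a class of type `M(22)` were disconnected, an involution with perfect centraliser
would map every component to itself and fix no member.  Modulo its centre the group of a component is then of
type `M(22)`, where every involutory automorphism fixes a member.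
-/

set_option autoImplicit false

namespace CfsgLib.M22

open CfsgLib.ThreeTransp CfsgLib.SporMisc CfsgLib.ThreeTransp.Factor

theorem center_quot_congr {A B : Type*} [Group A] [Group B] (f : A →* B) (S : Set A)
    (h : ∀ x ∈ Subgroup.closure S, (∀ y ∈ S, Commute (f x) (f y)) → ∀ y ∈ S, Commute x y) :
    Nonempty (↥(Subgroup.closure S) ⧸ Subgroup.center ↥(Subgroup.closure S) ≃*
      ↥(Subgroup.closure (f '' S)) ⧸ Subgroup.center ↥(Subgroup.closure (f '' S))) := by
  let f' : ↥(Subgroup.closure S) →* ↥(Subgroup.closure (f '' S)) :=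
    (MulEquiv.subgroupCongr (f.map_closure S)).toMonoidHom.comp (f.subgroupMap (Subgroup.closure S))
  have hf' : Function.Surjective f' :=
    (MulEquiv.surjective (MulEquiv.subgroupCongr (f.map_closure S))).comp
      (f.subgroupMap_surjective (Subgroup.closure S))
  let ψ := (QuotientGroup.mk' (Subgroup.center ↥(Subgroup.closure (f '' S)))).comp f'
  have hker : ψ.ker = Subgroup.center ↥(Subgroup.closure S) := by
    ext ⟨x, hx⟩
    rw [MonoidHom.mem_ker]
    show QuotientGroup.mk' _ (f' ⟨x, hx⟩) = 1 ↔ _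
    rw [QuotientGroup.mk'_apply, QuotientGroup.eq_one_iff]
    constructor
    · intro hz
      exact mem_center_of_commute (h x hx fun y hy =>
        commute_of_mem_center (x := f x) hz (Set.mem_image_of_mem f hy))
    · intro hz
      refine mem_center_of_commute (x := f x) ?_
      rintro _ ⟨y, hy, rfl⟩
      exact (commute_of_mem_center hz hy).map f
  exact ⟨(QuotientGroup.quotientMulEquivOfEq hker.symm).trans
    (QuotientGroup.quotientKerEquivOfSurjective ψ ((QuotientGroup.mk'_surjective _).comp hf'))⟩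

variable {G : Type*} [Group G] [Finite G] {D : Set G}

/-- A class of type `M(22)` in a group with an involution whose centraliser is perfect is primitive. -/
theorem primitive_of_perfect_centralizer (hD : Cfsg.IsThreeTranspositionClass D)
    (ht : Cfsg.IsOfTypeM22 G D) {t : G} (ht2 : orderOf t = 2)
    (hperf : Group.IsPerfect ↥(Subgroup.centralizer ({t} : Set G))) : Cfsg.IsPrimitiveUnderConj D := by
  classical
  obtain ⟨hZ, d, hd, c, hc, hdc, ⟨F, iF, iFt, hF4, ⟨e⟩⟩, c₃, hc₃, hR⟩ := id ht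
  have hF : Fintype.card F = 2 ^ 2 := by rw [hF4]; norm_num
  have h : TTC D := TTC.of_class hD ⟨d, hd, c, hc, fun e => hdc (e ▸ Commute.refl d)⟩
  haveI hsP : IsSimpleGroup (Cfsg.PSU 6 F 2) :=
    CfsgLib.Classical.Unitary.isSimpleGroup_PSU hF (by norm_num) (by norm_num)
  have hs : IsSimpleGroup (↥(linkSub D d) ⧸ Subgroup.center ↥(linkSub D d)) := by
    haveI : Nontrivial (↥(linkSub D d) ⧸ Subgroup.center ↥(linkSub D d)) := e.toEquiv.nontrivial
    exact IsSimpleGroup.isSimpleGroup_of_surjective e.symm.toMonoidHom e.symm.surjective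
  obtain ⟨hpi, -⟩ := twinFree_of_simple h hd hs
  haveI := hs
  refine primitive_of_simple_link h hd hs ?_
  by_contra hcon
  push Not at hcon
  obtain ⟨a₁, ha₁, b₁, hb₁, hab₁⟩ := hcon
  have hsym : ∀ u v : G, Commute u v → Commute v u := fun _ _ hh => hh.symm
  have heq : Equivariant D (comp D Commute) := h.tt.equivariant_comp
  have hadj : ∀ {u v : G}, u ∈ D → v ∈ D → Commute u v → comp D Commute v = comp D Commute u :=
    fun hu hv hh => comp_eq_of_mem hsym (mem_comp_of_rel hu hv hh)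
  -- the centraliser of `t` fixes every component
  set N := keyKer D (comp D Commute) with hN
  haveI hNn : N.Normal := h.tt.keyKer_normal heq
  set π := QuotientGroup.mk' N with hπ
  have hW : IsW1 (π '' D) := by
    refine ⟨?_, ?_, ?_⟩
    · rintro _ ⟨d, hd, rfl⟩
      rw [← map_mul, h.tt.sq d hd, map_one]
    · rintro _ ⟨d, hd, rfl⟩ _ ⟨e, he, rfl⟩
      by_cases hc : Commute d e
      · have : π d = π e := by
          show (d : G ⧸ N) = (e : G ⧸ N)
          rw [QuotientGroup.eq, h.tt.inv_eq hd]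
          exact mul_mem_keyKer hd he (hadj hd he hc).symm
        rw [this]
      · rw [← map_mul, ← map_mul, h.tt.braid hd he hc, map_mul, map_mul]
    · rintro _ ⟨d, hd, rfl⟩ _ ⟨e, he, rfl⟩
      exact ⟨d * e * d, h.tt.cj_mem hd he, by rw [map_mul, map_mul]⟩
  have hgen' : Subgroup.closure (π '' D) = ⊤ := by
    rw [← MonoidHom.map_closure, h.gen]
    exact Subgroup.map_top_of_surjective _ (QuotientGroup.mk'_surjective _)
  haveI hsolv : Group.IsSolvable (G ⧸ N) := hW.isSolvable_of_gen hgen'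
  have hCN : Subgroup.centralizer ({t} : Set G) ≤ N := by
    intro x hx
    haveI := hperf
    haveI : Group.IsPerfect (π.comp (Subgroup.centralizer ({t} : Set G)).subtype).range :=
      Group.IsPerfect.ofSurjective
        (f := (π.comp (Subgroup.centralizer ({t} : Set G)).subtype).rangeRestrict)
        (MonoidHom.rangeRestrict_surjective _)
    by_contra hxN
    have hne : π x ≠ 1 := fun h1 => hxN ((QuotientGroup.eq_one_iff x).1 h1)
    haveI : Nontrivial (π.comp (Subgroup.centralizer ({t} : Set G)).subtype).range :=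
      ⟨⟨⟨π x, ⟨⟨x, hx⟩, rfl⟩⟩, 1, fun h1 => hne (congrArg Subtype.val h1)⟩⟩
    exact Group.IsPerfect.not_isSolvable (π.comp (Subgroup.centralizer ({t} : Set G)).subtype).range inferInstance
  have htN : t ∈ N := hCN (Subgroup.mem_centralizer_singleton_iff.2 rfl)
  have hfree : ∀ b ∈ D, ¬ Commute t b := by
    intro b hb hc
    have hbN : b ∈ N := hCN (Subgroup.mem_centralizer_singleton_iff.2 hc.symm.eq)
    have hall : ∀ u ∈ D, u ∈ N := fun u hu => by
      obtain ⟨g, rfl⟩ := h.cls b hb u hu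
      exact hNn.conj_mem b hbN g
    by_cases hc1 : Commute a₁ b₁
    · exact hab₁ (hadj ha₁ hb₁ hc1).symm
    have e1 := h.tt.key_conj_of_mem_keyKer h.tt.keyFixing_comp (hall a₁ ha₁) hb₁
    have e2 := h.tt.key_conj_of_mem_keyKer h.tt.keyFixing_comp (hall b₁ hb₁) ha₁
    rw [h.tt.inv_eq ha₁, h.tt.braid ha₁ hb₁ hc1] at e1
    rw [h.tt.inv_eq hb₁] at e2
    exact hab₁ (e2.symm.trans e1)
  -- the component of `d` and its group
  set K := comp D Commute d with hK
  have hKD : K ⊆ D := comp_subset hd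
  have hKe : ∀ {x : G}, x ∈ K → comp D Commute x = K := fun hx => comp_eq_of_mem hsym hx
  have hKs : ∀ {x y : G}, x ∈ K → y ∈ K → x * y * x ∈ K := by
    intro x y hx hy
    have h1 := heq x y (hKD hy) x (hKD hx) ((hKe hy).trans (hKe hx).symm)
    rw [mul_inv_cancel_right, h.tt.inv_eq (hKD hx), hKe hx] at h1
    exact h1 ▸ mem_comp_self _ _ _
  have hKl : ∀ {x y : G}, x ∈ K → y ∈ D → Commute x y → y ∈ K := fun hx hy hxy => by
    have := (hadj (hKD hx) hy hxy).trans (hKe hx)
    exact this ▸ mem_comp_self _ _ _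
  have hKt : ∀ {x : G}, x ∈ K → t * x * t⁻¹ ∈ K := fun {x} hx => by
    have := (h.tt.key_conj_of_mem_keyKer h.tt.keyFixing_comp htN (hKD hx)).trans (hKe hx)
    exact this ▸ mem_comp_self _ _ _
  set H := Subgroup.closure K with hH
  have hKH : ∀ {x : G}, x ∈ K → x ∈ H := fun hx => Subgroup.subset_closure hx
  have hHK : ∀ {g : G}, g ∈ H → ∀ {x : G}, x ∈ K → g * x * g⁻¹ ∈ K := by
    intro g hg
    have : ∀ x ∈ K, g * x * g⁻¹ ∈ K ∧ g⁻¹ * x * g ∈ K := by
      induction hg using Subgroup.closure_induction with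
      | mem y hy =>
        intro x hx
        rw [h.tt.inv_eq (hKD hy)]
        exact ⟨hKs hy hx, hKs hy hx⟩
      | one => intro x hx; simpa using hx
      | mul u v _ _ i1 i2 =>
        intro x hx
        exact ⟨by simpa [mul_assoc] using (i1 _ (i2 x hx).1).1, by simpa [mul_assoc] using (i2 _ (i1 x hx).2).2⟩
      | inv u _ i1 => intro x hx; exact ⟨by simpa using (i1 x hx).2, by simpa using (i1 x hx).1⟩
    exact fun {x} hx => (this x hx).1
  have hl : link D d ∩ link D c ≠ ∅ := by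
    intro h0
    refine not_solvable_of_proj (by norm_num : 5 ≤ 6) hc₃ hR ?_
    have : Subgroup.closure (link D d ∩ link D c) = ⊥ := by rw [h0, Subgroup.closure_empty]
    refine isSolvable_quot ?_
    show Group.IsSolvable ↥(Subgroup.closure (link D d ∩ link D c))
    rw [this]
    infer_instance
  obtain ⟨x₀, hx₀d, hx₀c⟩ := Set.nonempty_iff_ne_empty.2 hl
  have hcK : c ∈ K := hKl (hKl (mem_comp_self _ _ _) hx₀d.1 hx₀d.2.2) hc hx₀c.2.2.symm
  have hdK : d ∈ K := mem_comp_self _ _ _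
  -- two commuting members of the component are conjugate under its group
  have hlnc : ∀ y ∈ link D d, ∃ z ∈ link D d, ¬ Commute y z := by
    intro w hw
    by_contra hcon
    push Not at hcon
    have hle : perp D d ⊆ perp D w := by
      intro e he
      refine ⟨he.1, ?_⟩
      by_cases hed : e = d
      · subst hed; exact hw.2.2.symm
      · exact hcon e ⟨he.1, hed, he.2⟩
    obtain ⟨k, hk⟩ := h.cls d hd w hw.1
    have hcard : (perp D w).ncard ≤ (perp D d).ncard := by
      refine Set.ncard_le_ncard_of_injOn (fun t => k⁻¹ * t * k) ?_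
        (fun u _ v _ huv => by simpa using huv) (Set.toFinite _)
      intro u hu
      refine ⟨by simpa using h.tt.conj k⁻¹ u hu.1, ?_⟩
      have h2 := hu.2
      rw [← hk] at h2
      rw [← Commute.conj_iff k]
      simpa [mul_assoc] using h2
    have he := Set.eq_of_subset_of_ncard_le hle hcard (Set.toFinite _)
    exact hw.2.1 (hpi d hd w hw.1 fun u hu =>
      ⟨fun hc => IsTT.commute_of_perp_eq hu he hc, fun hc => IsTT.commute_of_perp_eq hu he.symm hc⟩).symm
  -- the group of the link is transitive on it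
  have hltrans : ∀ y ∈ link D d, ∀ z ∈ link D d, ∃ g ∈ linkSub D d, g * y * g⁻¹ = z := by
    intro y hy z hz
    by_contra hne
    set X := {u : ↥(linkSub D d) | ∃ g : ↥(linkSub D d), ((g : G) * y * (g : G)⁻¹) = u} with hX
    haveI hXn : (Subgroup.closure X).Normal := normal_closure_of_invariant (by
      rintro k u ⟨g, hg⟩
      exact ⟨k * g, by
        simp only [Subgroup.coe_mul, Subgroup.coe_inv, ← hg]; group⟩)
    have hcomm : ∀ u ∈ X, Commute (u : G) z := by
      rintro u ⟨g, hg⟩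
      by_contra hnc
      have huD : (u : G) ∈ D := hg ▸ h.tt.conj g y hy.1
      apply hne
      refine ⟨(u : G) * z * (g : G), mul_mem (mul_mem u.2 (Subgroup.subset_closure hz)) g.2, ?_⟩
      calc (u : G) * z * g * y * ((u : G) * z * g)⁻¹ = u * z * (g * y * (g : G)⁻¹) * (z : G)⁻¹ * (u : G)⁻¹ := by group
        _ = z := by
          rw [hg, h.tt.inv_eq hz.1, h.tt.inv_eq huD, show (u : G) * z * u * z * u = u * (z * u * z) * u by group,
            h.tt.braid hz.1 huD (fun hh => hnc hh.symm)]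
          simp only [mul_assoc, cancel₂ (h.tt.sq _ huD), h.tt.sq _ huD, mul_one]
    let y₀ : ↥(linkSub D d) := ⟨y, Subgroup.subset_closure hy⟩
    let z₀ : ↥(linkSub D d) := ⟨z, Subgroup.subset_closure hz⟩
    haveI hm : ((Subgroup.closure X).map (QuotientGroup.mk' (Subgroup.center ↥(linkSub D d)))).Normal :=
      hXn.map _ (QuotientGroup.mk'_surjective _)
    rcases hm.eq_bot_or_eq_top with h' | h'
    · obtain ⟨w, hw, hyw⟩ := hlnc y hy
      have hy0 : y₀ ∈ Subgroup.center ↥(linkSub D d) := by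
        rw [← QuotientGroup.eq_one_iff]
        exact Subgroup.mem_bot.1 (h' ▸ Subgroup.mem_map_of_mem (QuotientGroup.mk' _)
          (Subgroup.subset_closure (show y₀ ∈ X from ⟨1, by simp [y₀]⟩)))
      exact hyw (congrArg Subtype.val (Subgroup.mem_center_iff.1 hy0 ⟨w, Subgroup.subset_closure hw⟩)).symm
    · obtain ⟨w, hw, hzw⟩ := hlnc z hz
      obtain ⟨n, hn', hne'⟩ := Subgroup.mem_map.1 (h' ▸ Subgroup.mem_top
        (QuotientGroup.mk' (Subgroup.center ↥(linkSub D d)) ⟨w, Subgroup.subset_closure hw⟩))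
      have hzc : Subgroup.closure X ≤ Subgroup.centralizer {z₀} := (Subgroup.closure_le _).2 fun u hu =>
        Subgroup.mem_centralizer_singleton_iff.2 (Subtype.ext (hcomm u hu).eq)
      have c1 : Commute z₀ n := (Subgroup.mem_centralizer_singleton_iff.1 (hzc hn')).symm
      have c2 : Commute z₀ (n⁻¹ * ⟨w, Subgroup.subset_closure hw⟩) :=
        Subgroup.mem_center_iff.1 (QuotientGroup.eq.1 hne') z₀
      have c3 : Commute z₀ (⟨w, Subgroup.subset_closure hw⟩ : ↥(linkSub D d)) := by simpa using c1.mul_right c2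
      exact hzw (congrArg Subtype.val c3.eq)
  -- every edge lies in a triangle
  have htri : ∀ y ∈ link D d, ∃ z ∈ link D d, z ≠ y ∧ Commute y z := by
    intro y hy
    by_contra hcon
    push Not at hcon
    obtain ⟨w, hw, hyw⟩ := hlnc y hy
    refine not_isSolvable_of_simple_noncomm (linkIn_tt h.tt d) (x := ⟨y, Subgroup.subset_closure hy⟩)
      (z := ⟨w, Subgroup.subset_closure hw⟩) hy hw (fun hh => hyw (commute_coe_iff.2 hh)) ?_
    have hpair : ∀ u ∈ linkIn D d, ∀ v ∈ linkIn D d, u ≠ v → ¬Commute u v := by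
      intro u hu v hv huv hc'
      obtain ⟨g, hg, hgy⟩ := hltrans _ hu y hy
      have hfix : g * d * g⁻¹ = d := by
        rw [← (commute_link_closure (D := D) (a := d) hg).eq, mul_inv_cancel_right]
      have lv : g * (v : G) * g⁻¹ ∈ link D d := by
        have := link_conj h.tt g (show (v : G) ∈ link D d from hv)
        rwa [hfix] at this
      refine hcon _ lv (fun e => huv (Subtype.ext ?_)) (hgy ▸ (Commute.conj_iff g).2 (commute_coe_iff.2 hc'))
      rw [← hgy] at e
      simpa using e.symm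
    have hcl : ∀ u ∈ linkIn D d, ∀ v ∈ linkIn D d, u * v * u ∈ linkIn D d := fun u hu v hv =>
      (linkIn_tt h.tt d).cj_mem hu hv
    have hsol := IsW1.isSolvable_closure ((linkIn_tt h.tt d).mono_w1 (subset_refl _) hpair hcl)
    rw [linkIn_gen] at hsol
    haveI := hsol
    have : Group.IsSolvable ↥(linkSub D d) := Group.isSolvable_of_surjective
      (f := (⊤ : Subgroup ↥(linkSub D d)).subtype) fun w => ⟨⟨w, Subgroup.mem_top w⟩, rfl⟩
    exact Group.isSolvable_of_surjective (f := QuotientGroup.mk' _) (QuotientGroup.mk'_surjective _)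
  have hclsH : ∀ {x : G}, x ∈ K → ∃ g ∈ H, g * d * g⁻¹ = x := by
    intro x hx
    change Relation.ReflTransGen _ d x at hx
    induction hx with
    | refl => exact ⟨1, one_mem _, by group⟩
    | @tail u v hu huv ih =>
      obtain ⟨g, hg, rfl⟩ := ih
      by_cases hvu : v = g * d * g⁻¹
      · exact ⟨g, hg, hvu.symm⟩
      have ly : g⁻¹ * v * g ∈ link D d := (link_conj_iff h.tt g).1 ⟨huv.2.1, hvu, huv.2.2⟩
      obtain ⟨z, hz, hzy, hcy⟩ := htri _ ly
      -- `d` and its neighbour are in the link of the third member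
      obtain ⟨k, hk⟩ := h.cls z hz.1 d hd
      have l1 : k * d * k⁻¹ ∈ link D d := by
        have := link_conj h.tt k (show d ∈ link D z from ⟨hd, hz.2.1.symm, hz.2.2.symm⟩)
        rwa [hk] at this
      have l2 : k * (g⁻¹ * v * g) * k⁻¹ ∈ link D d := by
        have := link_conj h.tt k (show g⁻¹ * v * g ∈ link D z from ⟨ly.1, hzy.symm, hcy.symm⟩)
        rwa [hk] at this
      obtain ⟨m, hm, hmv⟩ := hltrans _ l1 _ l2
      have hback : ∀ w ∈ Subgroup.closure (link D d), k⁻¹ * w * k ∈ Subgroup.closure (link D z) := by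
        intro w hw
        induction hw using Subgroup.closure_induction with
        | mem s hs => exact Subgroup.subset_closure ((link_conj_iff h.tt k).1 (hk.symm ▸ hs))
        | one => simp
        | mul s r _ _ i1 i2 => simpa [mul_assoc] using mul_mem i1 i2
        | inv s _ i1 => simpa [mul_assoc] using inv_mem i1
      have hzK : z ∈ K := hKl hdK hz.1 hz.2.2
      have hzH : Subgroup.closure (link D z) ≤ H :=
        (Subgroup.closure_le _).2 fun s hs => hKH (hKl hzK hs.1 hs.2.2)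
      refine ⟨g * (k⁻¹ * m * k), mul_mem hg (hzH (hback m hm)), ?_⟩
      calc g * (k⁻¹ * m * k) * d * (g * (k⁻¹ * m * k))⁻¹
          = g * (k⁻¹ * (m * (k * d * k⁻¹) * m⁻¹) * k) * g⁻¹ := by group
        _ = v := by rw [hmv]; group
  -- the quotient of the group of the component by its centre
  let K₁ : Set ↥H := {x | (x : G) ∈ K}
  have hT₁ : IsTT K₁ :=
    ⟨fun x hx => Subtype.ext (h.tt.sq _ (hKD hx)), fun x hx e => h.tt.ne_one _ (hKD hx) (by rw [e]; rfl),
      fun x hx y hy => (h.tt.cond _ (hKD hx) _ (hKD hy)).imp (fun hh => Subtype.ext hh.eq)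
        fun hh => Subtype.ext hh,
      fun g x hx => hHK g.2 hx⟩
  have hgen₁ : Subgroup.closure K₁ = ⊤ := Subgroup.closure_closure_coe_preimage
  have hcls₁ : ∀ {x : ↥H}, x ∈ K₁ → ∃ g : ↥H, g * ⟨d, hKH hdK⟩ * g⁻¹ = x := fun {x} hx => by
    obtain ⟨g, hg, hgx⟩ := hclsH hx
    exact ⟨⟨g, hg⟩, Subtype.ext hgx⟩
  have hTTC : TTC K₁ := by
    refine ⟨hT₁, hgen₁, fun x hx y hy => ?_,
      ⟨⟨d, hKH hdK⟩, hdK, ⟨c, hKH hcK⟩, hcK, fun e => hdc (by
        have e' : d = c := congrArg Subtype.val e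
        rw [e'])⟩⟩
    obtain ⟨g, rfl⟩ := hcls₁ hx
    obtain ⟨k, rfl⟩ := hcls₁ hy
    exact ⟨k * g⁻¹, by group⟩
  set Z := Subgroup.center ↥H with hZdef
  let f : ↥H →* ↥H ⧸ Z := QuotientGroup.mk' Z
  let E : Set (↥H ⧸ Z) := f '' K₁
  have hinj : ∀ {x y : ↥H}, x ∈ K₁ → y ∈ K₁ → f x = f y → x = y := fun {x y} hx hy e => by
    refine hTTC.eq_of_central_mul hx hy ?_
    have := QuotientGroup.eq.1 e
    rwa [hT₁.inv_eq hx] at this
  have hcomm : ∀ {x y : ↥H}, x ∈ K₁ → y ∈ K₁ → Commute (f x) (f y) → Commute x y := fun {x y} hx hy e =>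
    mul_inv_eq_iff_eq_mul.1 (hinj (hT₁.conj x y hy) hy
      (by rw [map_mul, map_mul, map_inv, e.eq, mul_inv_cancel_right]))
  have hne₁ : ∀ {x : ↥H}, x ∈ K₁ → f x ≠ 1 := fun {x} hx e => by
    obtain ⟨g, rfl⟩ := hcls₁ hx
    have hdZ : (⟨d, hKH hdK⟩ : ↥H) ∈ Z := by
      have h1 : g * ⟨d, hKH hdK⟩ * g⁻¹ ∈ Z := (QuotientGroup.eq_one_iff _).1 e
      have := (inferInstance : Z.Normal).conj_mem _ h1 g⁻¹
      simpa [mul_assoc] using this
    exact hdc (commute_coe_iff.2 (Subgroup.mem_center_iff.1 hdZ ⟨c, hKH hcK⟩).symm)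
  have hsqE : ∀ u ∈ E, orderOf u = 2 := by
    rintro _ ⟨x, hx, rfl⟩
    exact orderOf_eq_prime (by rw [pow_two, ← map_mul, hT₁.sq x hx, map_one]) (hne₁ hx)
  have hclassE : Cfsg.IsThreeTranspositionClass E := by
    refine ⟨⟨hsqE, ?_⟩, ⟨f ⟨d, hKH hdK⟩, ⟨_, hdK, rfl⟩, Set.ext fun u => ⟨?_, fun hu => ?_⟩⟩, ?_⟩
    · rintro _ ⟨x, hx, rfl⟩ _ ⟨y, hy, rfl⟩
      rw [← map_mul, ← map_pow, ← map_pow]
      rcases hT₁.cond x hx y hy with hh | hh
      · exact Or.inl (by rw [pow_two, hh.symm.mul_mul_mul_comm, hT₁.sq x hx, hT₁.sq y hy, mul_one, map_one])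
      · exact Or.inr (by rw [pow_three_eq_one (hT₁.sq x hx) (hT₁.sq y hy) hh, map_one])
    · rintro ⟨x, hx, rfl⟩
      obtain ⟨g, rfl⟩ := hcls₁ hx
      exact show IsConj _ _ from isConj_iff.2 ⟨f g, by simp⟩
    · obtain ⟨g, rfl⟩ := isConj_iff.1 (show IsConj _ u from hu)
      obtain ⟨g, rfl⟩ := QuotientGroup.mk'_surjective Z g
      exact ⟨g * ⟨d, hKH hdK⟩ * g⁻¹, hT₁.conj g _ hdK, by simp [f]⟩
    · rw [← MonoidHom.map_closure, hgen₁]
      exact Subgroup.map_top_of_surjective _ (QuotientGroup.mk'_surjective _)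
  -- it is of type `M(22)`
  have himage : ∀ {x : ↥H}, x ∈ K₁ → link E (f x) = f '' {y | (y : G) ∈ link D (x : G)} := by
    intro x hx
    ext u
    constructor
    · rintro ⟨⟨y, hy, rfl⟩, hne, hxy⟩
      exact ⟨y, ⟨hKD hy, fun e => hne (by rw [Subtype.ext e]), commute_coe_iff.2 (hcomm hx hy hxy)⟩, rfl⟩
    · rintro ⟨y, hy, rfl⟩
      have hyK : y ∈ K₁ := hKl hx hy.1 hy.2.2
      exact ⟨⟨y, hyK, rfl⟩, fun e => hy.2.1 (congrArg Subtype.val (hinj hyK hx e)),
        (commute_coe_iff.1 hy.2.2).map f⟩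
  have hquot : ∀ (S : Set G), S ⊆ K →
      Nonempty (↥(Subgroup.closure S) ⧸ Subgroup.center ↥(Subgroup.closure S) ≃*
        ↥(Subgroup.closure (f '' {y : ↥H | (y : G) ∈ S})) ⧸
          Subgroup.center ↥(Subgroup.closure (f '' {y : ↥H | (y : G) ∈ S}))) := by
    intro S hS
    set S₁ : Set ↥H := {y | (y : G) ∈ S}
    obtain ⟨e1⟩ := center_quot_congr H.subtype S₁ fun x _ hh y hy => commute_coe_iff.1 (hh y hy)
    obtain ⟨e2⟩ := center_quot_congr f S₁ fun x _ hh y hy => by
      have hyK : y ∈ K₁ := hS hy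
      exact mul_inv_eq_iff_eq_mul.1 (hinj (hT₁.conj x y hyK) hyK
        (by rw [map_mul, map_mul, map_inv, (hh y hy).eq, mul_inv_cancel_right]))
    have himg : H.subtype '' S₁ = S := by
      ext y
      exact ⟨by rintro ⟨z, hz, rfl⟩; exact hz, fun hy => ⟨⟨y, hKH (hS hy)⟩, hy, rfl⟩⟩
    rw [himg] at e1
    exact ⟨e1.symm.trans e2⟩
  have htE : Cfsg.IsOfTypeM22 (↥H ⧸ Z) E := by
    refine ⟨?_, f ⟨d, hKH hdK⟩, ⟨_, hdK, rfl⟩, f ⟨c, hKH hcK⟩, ⟨_, hcK, rfl⟩,
      fun hh => hdc (commute_coe_iff.2 (hcomm hdK hcK hh)), ⟨F, iF, iFt, hF4, ?_⟩, c₃, hc₃, ?_⟩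
    · rw [eq_bot_iff]
      intro u hu
      obtain ⟨x, rfl⟩ := QuotientGroup.mk'_surjective Z u
      rw [Subgroup.mem_bot]
      refine (QuotientGroup.eq_one_iff x).2 (Subgroup.mem_center_iff.2 fun g => ?_)
      have hg : g ∈ Subgroup.closure K₁ := hgen₁ ▸ Subgroup.mem_top g
      induction hg using Subgroup.closure_induction with
      | mem y hy =>
        refine (mul_inv_eq_iff_eq_mul.1 (hinj (hT₁.conj x y hy) hy ?_)).symm
        rw [map_mul, map_mul, map_inv]
        show f x * f y * (f x)⁻¹ = f y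
        rw [← Subgroup.mem_center_iff.1 hu (f y), mul_inv_cancel_right]
      | one => rw [one_mul, mul_one]
      | mul p q _ _ i1 i2 => rw [mul_assoc, i2, ← mul_assoc, i1, mul_assoc]
      | inv p _ i1 => exact (Commute.inv_left (show Commute p x from i1)).eq
    · obtain ⟨e2⟩ := hquot (link D d) fun y hy => hKl hdK hy.1 hy.2.2
      rw [← himage (x := ⟨d, hKH hdK⟩) hdK] at e2
      exact ⟨e2.symm.trans e⟩
    · obtain ⟨e2⟩ := hquot (link D d ∩ link D c) fun y hy => hKl hdK hy.1.1 hy.1.2.2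
      have hi : f '' {y : ↥H | (y : G) ∈ link D d ∩ link D c} =
          link E (f ⟨d, hKH hdK⟩) ∩ link E (f ⟨c, hKH hcK⟩) := by
        rw [himage (x := ⟨d, hKH hdK⟩) hdK, himage (x := ⟨c, hKH hcK⟩) hcK]
        refine Set.Subset.antisymm (fun u ⟨y, hy, hu⟩ => ⟨⟨y, hy.1, hu⟩, ⟨y, hy.2, hu⟩⟩) ?_
        rintro u ⟨⟨y, hy, rfl⟩, ⟨z, hz, hzy⟩⟩
        have hzy' := hinj (hKl hcK hz.1 hz.2.2) (hKl hdK hy.1 hy.2.2) hzy
        subst hzy'
        exact ⟨z, ⟨hy, hz⟩, rfl⟩
      rw [hi] at e2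
      obtain ⟨Q, hQ, hμ, ⟨eR⟩⟩ := hR
      exact ⟨Q, hQ, hμ, ⟨e2.symm.trans eR⟩⟩
  have hE : TTC E := TTC.of_class hclassE ⟨f ⟨d, hKH hdK⟩, ⟨_, hdK, rfl⟩, f ⟨c, hKH hcK⟩, ⟨_, hcK, rfl⟩, fun e =>
    hdc (by
      have := congrArg Subtype.val (hinj (x := ⟨d, hKH hdK⟩) (y := ⟨c, hKH hcK⟩) hdK hcK e)
      simp only at this
      rw [this])⟩
  have hprimE : Cfsg.IsPrimitiveUnderConj E := by
    refine primitive_of_simple_link hE (d := f ⟨d, hKH hdK⟩) ⟨_, hdK, rfl⟩ ?_ ?_
    · obtain ⟨e2⟩ := hquot (link D d) fun y hy => hKl hdK hy.1 hy.2.2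
      rw [← himage (x := ⟨d, hKH hdK⟩) hdK] at e2
      let ee := e2.symm.trans e
      haveI : Nontrivial (↥(linkSub E (f ⟨d, hKH hdK⟩)) ⧸ Subgroup.center ↥(linkSub E (f ⟨d, hKH hdK⟩))) :=
        ee.toEquiv.nontrivial
      exact IsSimpleGroup.isSimpleGroup_of_surjective ee.symm.toMonoidHom ee.symm.surjective
    · have hconn : ∀ u ∈ E, comp E Commute u = comp E Commute (f ⟨d, hKH hdK⟩) := by
        rintro _ ⟨⟨x, hxH⟩, hx, rfl⟩
        refine comp_eq_of_mem (fun _ _ hh => hh.symm) ?_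
        have hx' : x ∈ K := hx
        clear hx
        change Relation.ReflTransGen _ d x at hx'
        induction hx' with
        | refl => exact mem_comp_self _ _ _
        | @tail u v hu huv ih =>
          have hu' : u ∈ K := hu
          have hv' : v ∈ K := hKl hu' huv.2.1 huv.2.2
          exact mem_comp_step (ih (hKH hu')) ⟨_, hu', rfl⟩ ⟨⟨v, hxH⟩, hv', rfl⟩
            ((show Commute (⟨u, hKH hu'⟩ : ↥H) ⟨v, hxH⟩ from Subtype.ext huv.2.2.eq).map f)
      intro u hu v hv
      rw [hconn u hu, hconn v hv]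
  -- conjugation by `t` would fix a member
  have hmap : H.map (MulAut.conj t).toMonoidHom = H := by
    refine Subgroup.eq_of_le_of_card_ge ?_ ?_
    · rw [hH, MonoidHom.map_closure, Subgroup.closure_le]
      rintro _ ⟨x, hx, rfl⟩
      exact Subgroup.subset_closure (hKt hx)
    · rw [Subgroup.card_map_of_injective (MulAut.conj t).injective]
  let φ₁ : MulAut ↥H := ((MulAut.conj t).subgroupMap H).trans (MulEquiv.subgroupCongr hmap)
  have hφZ : Z.map φ₁.toMonoidHom = Z := Subgroup.characteristic_iff_map_eq.1 inferInstance φ₁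
  let φ : MulAut (↥H ⧸ Z) := QuotientGroup.congr Z Z φ₁ hφZ
  have htt : t * t = 1 := by rw [← pow_two, ← ht2, pow_orderOf_eq_one]
  have hφ2 : ∀ u, φ (φ u) = u := by
    intro u
    obtain ⟨x, rfl⟩ := QuotientGroup.mk'_surjective Z u
    show QuotientGroup.mk' Z (φ₁ (φ₁ x)) = _
    congr 1
    refine Subtype.ext ?_
    show t * (t * (x : G) * t⁻¹) * t⁻¹ = x
    rw [inv_eq_self htt, show t * (t * (x : G) * t) * t = (t * t) * x * (t * t) by group, htt, one_mul, mul_one]
  have hS := Setup.of_group ⟨hclassE.1, fun g u hu => hE.tt.conj g u hu, hclassE.2.2⟩ hprimE htE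
  obtain ⟨F₂, _, _, hF₂, hM⟩ := hS.exists_models
  obtain ⟨u, ⟨x, hx, rfl⟩, hfix⟩ := outer_fixed hS hF₂ hM φ hφ2
  have := hinj (hKt (x := (x : G)) hx : φ₁ x ∈ K₁) hx hfix
  exact hfree _ (hKD hx) (mul_inv_eq_iff_eq_mul.1 (congrArg Subtype.val this))

/-- The setup for a class of type `M(22)` in a group with an involution with perfect centraliser. -/
theorem Setup.of_class_perfect (hD : Cfsg.IsThreeTranspositionClass D) (ht : Cfsg.IsOfTypeM22 G D)
    {t : G} (ht2 : orderOf t = 2) (hperf : Group.IsPerfect ↥(Subgroup.centralizer ({t} : Set G))) : Setup D :=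
  Setup.of_group ⟨hD.1, fun g u hu => (isTT_of_class hD).conj g u hu, hD.2.2⟩
    (primitive_of_perfect_centralizer hD ht ht2 hperf) ht

end CfsgLib.M22
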