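import Cfsg.Agent.Lib.ThreeTransp.Cover.M22Conn
import Cfsg.Agent.Lib.ThreeTransp.M22Extra

/-!
# Double covers of groups of type `M(22)`: every involution lifts to an involution

Six pairwise commuting members have product one, and so do seven.  The first relation shows that lifts of
commuting members commute, the second that a lift of a member is an involution.
-/

set_option autoImplicit false

namespace CfsgLib.M22

open CfsgLib.ThreeTransp CfsgLib.SporMisc
open CfsgLib.U6 (IsPt IsPlane)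

variable {G : Type*} [Group G] {D : Set G}
variable [Finite G] (S : Setup D) {F : Type} [Field F] [Fintype F] (hF : Fintype.card F = 2 ^ 2)
  (hM : ∀ a ∈ D, Nonempty (Model D a F))
include S hF hM

/-- Six commuting members with product one, starting with a given commuting pair. -/
theorem exists_six_relation {a b : G} (ha : a ∈ D) (hb : b ∈ link D a) :
    ∃ c p q r : G, [a, b, c, p, q, r].Nodup ∧ (∀ x ∈ [a, b, c, p, q, r], x ∈ D) ∧
      (∀ x ∈ [a, b, c, p, q, r], ∀ y ∈ [a, b, c, p, q, r], Commute x y) ∧ a * b * c * p * q * r = 1 := by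
  obtain ⟨A⟩ := hM a ha
  obtain ⟨c, hc⟩ := A.exists_third S hF ha hb
  obtain ⟨p, q, r, hnd, hmem, hcomm, hprod⟩ := exists_five S hF hM ha hb (show c ∈ link D a ∩ link D b from hc)
  refine ⟨c, p, q, r, List.nodup_cons.2 ⟨fun h => (hmem a h).2.1 rfl, hnd⟩, ?_, ?_, ?_⟩
  · intro x hx
    rcases List.mem_cons.1 hx with rfl | hx
    · exact ha
    · exact (hmem x hx).1
  · intro x hx y hy
    rcases List.mem_cons.1 hx with e | hx <;> rcases List.mem_cons.1 hy with e' | hy
    · rw [e, e']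
    · rw [e]; exact (hmem y hy).2.2
    · rw [e']; exact (hmem x hx).2.2.symm
    · exact hcomm x hx y hy
  · calc a * b * c * p * q * r = a * (b * c * p * q * r) := by group
      _ = 1 := by rw [hprod, S.sqd ha]

/-- Seven commuting members with product one. -/
theorem exists_seven_relation : ∃ a b c g p q r : G, (∀ x ∈ [a, b, c, g, p, q, r], x ∈ D) ∧
    (∀ x ∈ [a, b, c, g, p, q, r], ∀ y ∈ [a, b, c, g, p, q, r], Commute x y) ∧
      a * b * c * g * p * q * r = 1 := by
  obtain ⟨a, ha, -⟩ := S.exists_noncommuting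
  obtain ⟨A⟩ := hM a ha
  obtain ⟨b, hb⟩ := A.link_nonempty hF
  obtain ⟨u₁, hu₁⟩ := A.exists_pt_of_link S hF ha hb
  obtain ⟨u₂, hu₂, h12, h12'⟩ := U6.exists_perp_point hF hu₁.1
  have hi₂ : u₂ ∉ Submodule.span F {u₁} := fun h => by
    obtain ⟨c, hc⟩ := Submodule.mem_span_singleton.1 h
    exact h12' c hc.symm
  obtain ⟨u₃, hu₃, h31, h32, hi₃⟩ := U6.exists_plane hF hu₁.1 hi₂
  obtain ⟨X₂, hX₂⟩ := U6.exists_pt hF hu₂
  obtain ⟨X₃, hX₃⟩ := U6.exists_pt hF hu₃
  obtain ⟨c, hc, rfl⟩ := A.exists_link_of_pt S hF ha hX₂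
  obtain ⟨g, hg, rfl⟩ := A.exists_link_of_pt S hF ha hX₃
  have P : IsPlane u₁ u₂ u₃ := ⟨hu₁.1.2, hu₂.2, hu₃.2, h12, (U6.comm_zero hF).1 h31,
    (U6.comm_zero hF).1 h32, hu₁.1.1, hi₂, hi₃⟩
  have nbc : b ≠ c := fun h => by
    subst h
    obtain ⟨s, -, hs⟩ := IsPt.span_eq hF hu₁ hX₂
    exact h12' s hs
  have nbg : b ≠ g := fun h => by
    subst h
    obtain ⟨s, -, hs⟩ := IsPt.span_eq hF hu₁ hX₃
    exact hi₃ (hs ▸ Submodule.smul_mem _ s (Submodule.subset_span (Set.mem_insert _ _)))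
  have ncg : c ≠ g := fun h => by
    subst h
    obtain ⟨s, -, hs⟩ := IsPt.span_eq hF hX₂ hX₃
    exact hi₃ (hs ▸ Submodule.smul_mem _ s (Submodule.subset_span (Set.mem_insert_of_mem _ rfl)))
  have T : Tri D b c g := ⟨hb.1, hc.1, hg.1, nbc, nbg, ncg,
    (A.comm_iff S hF ha hb hc hu₁ hX₂).2 h12, ((A.comm_iff S hF ha hg hb hX₃ hu₁).2 h31).symm,
    ((A.comm_iff S hF ha hg hc hX₃ hX₂).2 h32).symm⟩
  obtain ⟨p, q, r, T', hp⟩ := four_to_three S hF hM ha A hb hc hg hu₁ hX₂ hX₃ P T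
  -- everything commuting with the four commutes with the three
  have hfour : ∀ x ∈ [a, b, c, g], ∀ y ∈ [a, b, c, g], Commute x y := by
    intro x hx y hy
    simp only [List.mem_cons, List.not_mem_nil, or_false] at hx hy
    rcases hx with e | e | e | e <;> rcases hy with e' | e' | e' | e' <;> rw [e, e'] <;>
      first
        | exact hb.2.2
        | exact hb.2.2.symm
        | exact hc.2.2
        | exact hc.2.2.symm
        | exact hg.2.2
        | exact hg.2.2.symm
        | exact T.cab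
        | exact T.cab.symm
        | exact T.cac
        | exact T.cac.symm
        | exact T.cbc
        | exact T.cbc.symm
  have hDf : ∀ x ∈ [a, b, c, g], x ∈ D := by
    simp only [List.mem_cons, List.not_mem_nil, or_false]
    rintro x (rfl | rfl | rfl | rfl)
    exacts [ha, hb.1, hc.1, hg.1]
  have hmix : ∀ x ∈ [a, b, c, g], Commute x p ∧ Commute x q ∧ Commute x r := fun x hx =>
    commute_all S hF hM (hDf x hx) T' (hp ▸ (hfour x hx a (by simp)).mul_right
      (((hfour x hx b (by simp)).mul_right (hfour x hx c (by simp))).mul_right (hfour x hx g (by simp))))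
  refine ⟨a, b, c, g, p, q, r, ?_, ?_, ?_⟩
  · intro x hx
    rw [show [a, b, c, g, p, q, r] = [a, b, c, g] ++ [p, q, r] from rfl, List.mem_append] at hx
    rcases hx with hx | hx
    · exact hDf x hx
    · simp only [List.mem_cons, List.not_mem_nil, or_false] at hx
      rcases hx with rfl | rfl | rfl
      exacts [T'.ha, T'.hb, T'.hc]
  · intro x hx y hy
    rw [show [a, b, c, g, p, q, r] = [a, b, c, g] ++ [p, q, r] from rfl, List.mem_append] at hx hy
    rcases hx with hx | hx <;> rcases hy with hy | hy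
    · exact hfour x hx y hy
    · obtain ⟨h1, h2, h3⟩ := hmix x hx
      simp only [List.mem_cons, List.not_mem_nil, or_false] at hy
      rcases hy with e | e | e <;> rw [e]
      exacts [h1, h2, h3]
    · obtain ⟨h1, h2, h3⟩ := hmix y hy
      simp only [List.mem_cons, List.not_mem_nil, or_false] at hx
      rcases hx with e | e | e <;> rw [e]
      exacts [h1.symm, h2.symm, h3.symm]
    · simp only [List.mem_cons, List.not_mem_nil, or_false] at hx hy
      rcases hx with e | e | e <;> rcases hy with e' | e' | e' <;> rw [e, e'] <;>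
        first
          | exact T'.cab
          | exact T'.cab.symm
          | exact T'.cac
          | exact T'.cac.symm
          | exact T'.cbc
          | exact T'.cbc.symm
  · calc a * b * c * g * p * q * r = a * (b * c * g) * (p * q * r) := by group
      _ = p * q * r * (p * q * r) := by rw [hp]
      _ = 1 := T'.sq S

variable {H : Type*} [Group H] {π : H →* G} {z : H} (hsurj : Function.Surjective π)
  (hker : ∀ h, π h = 1 → h = 1 ∨ h = z) (hπz : π z = 1) (hcz : ∀ h, Commute z h) (hzz : z * z = 1)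
include hsurj hker hπz hcz hzz

omit S hF hM hsurj hzz [Finite G] in
theorem lift_eq_or {h k : H} (e : π h = π k) : k = h ∨ k = h * z := by
  rcases hker (h⁻¹ * k) (by rw [map_mul, map_inv, e, inv_mul_cancel]) with h1 | h1
  · exact Or.inl (inv_mul_eq_one.1 h1).symm
  · exact Or.inr (inv_mul_eq_iff_eq_mul.1 h1)

omit S hF hM hsurj hzz [Finite G] in
theorem lift_commute {h k h' k' : H} (e : π h = π h') (e' : π k = π k') (hc : Commute h k) :
    Commute h' k' := by
  rcases lift_eq_or hker hπz hcz e with rfl | rfl <;> rcases lift_eq_or hker hπz hcz e' with rfl | rfl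
  · exact hc
  · exact hc.mul_right (hcz _).symm
  · exact hc.mul_left (hcz _)
  · exact (hc.mul_left (hcz _)).mul_right ((hcz _).symm.mul_left (hcz _))

/-- Lifts of commuting members commute. -/
theorem commute_lift {a b : G} (ha : a ∈ D) (hb : b ∈ D) (hab : Commute a b) {T U : H} (hT : π T = a)
    (hU : π U = b) : Commute T U := by
  by_cases hne : a = b
  · subst hne
    exact lift_commute hker hπz hcz (h := T) (k := T) rfl (hT.trans hU.symm) (Commute.refl T)
  by_contra hnc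
  have lb : b ∈ link D a := ⟨hb, Ne.symm hne, hab⟩
  -- no two lifts of a commuting pair commute
  have flip : ∀ {y : G}, y ∈ link D a → ∀ {R : H}, π R = y → T * R = R * T * z := by
    intro y hy R hR
    have hπ : π (R * T) = π (T * R) := by rw [map_mul, map_mul, hR, hT]; exact hy.2.2.symm.eq
    refine (lift_eq_or hker hπz hcz hπ).resolve_left fun hc => hnc ?_
    obtain ⟨A⟩ := hM a ha
    obtain ⟨k, hk, hky⟩ := A.link_conj_of_mem S hF ha hy lb
    obtain ⟨K, rfl⟩ := hsurj k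
    refine lift_commute hker hπz hcz (h := K * T * K⁻¹) (k := K * R * K⁻¹) ?_ ?_
      ((Commute.conj_iff K).2 hc)
    · rw [map_mul, map_mul, map_inv, hT, ← (commute_link_closure hk).eq, mul_inv_cancel_right]
    · rw [map_mul, map_mul, map_inv, hR, hU, hky]
  obtain ⟨c, p, q, r, hnd, hD6, hc6, hprod⟩ := exists_six_relation S hF hM ha lb
  have hl : ∀ x ∈ [b, c, p, q, r], x ∈ link D a := fun x hx =>
    ⟨hD6 x (List.mem_cons_of_mem _ hx), fun e => (List.nodup_cons.1 hnd).1 (e ▸ hx),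
      hc6 a List.mem_cons_self x (List.mem_cons_of_mem _ hx)⟩
  obtain ⟨R₂, hR₂⟩ := hsurj c
  obtain ⟨R₃, hR₃⟩ := hsurj p
  obtain ⟨R₄, hR₄⟩ := hsurj q
  obtain ⟨R₅, hR₅⟩ := hsurj r
  have e1 := flip (hl b (by simp)) hU
  have e2 := flip (hl c (by simp)) hR₂
  have e3 := flip (hl p (by simp)) hR₃
  have e4 := flip (hl q (by simp)) hR₄
  have e5 := flip (hl r (by simp)) hR₅
  have mv : ∀ {R : H}, T * R = R * T * z → ∀ k : H, T * (R * k) = R * (T * k) * z := fun {R} h k => by
    rw [← mul_assoc, h]; simp only [mul_assoc]; rw [(hcz k).eq]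
  have hflip : T * (U * R₂ * R₃ * R₄ * R₅) = U * R₂ * R₃ * R₄ * R₅ * T * z := by
    simp only [mul_assoc]
    rw [mv e1, mv e2, mv e3, mv e4, e5]
    simp only [mul_assoc]
    rw [show z * (z * (z * (z * z))) = z by rw [hzz, mul_one, hzz, mul_one]]
  have hcen : Commute T (U * R₂ * R₃ * R₄ * R₅) := by
    rcases hker (T * (U * R₂ * R₃ * R₄ * R₅)) (by
      simp only [map_mul, hT, hU, hR₂, hR₃, hR₄, hR₅]
      rw [← hprod]; group) with h | h
    · rw [show U * R₂ * R₃ * R₄ * R₅ = T⁻¹ from eq_inv_of_mul_eq_one_right h]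
      exact (Commute.refl T).inv_right
    · rw [show U * R₂ * R₃ * R₄ * R₅ = T⁻¹ * z from eq_inv_mul_of_mul_eq h]
      exact ((Commute.refl T).inv_right).mul_right (hcz T).symm
  have hz1 : z = 1 := by
    rw [hcen.eq] at hflip
    exact left_eq_mul.1 hflip
  apply hnc
  rw [hz1, mul_one] at e1
  exact e1

/-- The lift of a member is an involution. -/
theorem sq_lift {a : G} (ha : a ∈ D) {T : H} (hT : π T = a) : T * T = 1 := by
  have hs : ∀ {y : G}, y ∈ D → ∀ {U : H}, π U = y → U * U = T * T := by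
    intro y hy U hU
    obtain ⟨g, rfl⟩ := S.cls ha hy
    obtain ⟨R, rfl⟩ := hsurj g
    have hTT : T * T = 1 ∨ T * T = z := hker _ (by rw [map_mul, hT, S.sqd ha])
    rcases lift_eq_or hker hπz hcz (show π (R * T * R⁻¹) = π U by rw [hU, map_mul, map_mul, map_inv, hT])
      with rfl | rfl
    · rcases hTT with h | h
      · rw [show R * T * R⁻¹ * (R * T * R⁻¹) = R * (T * T) * R⁻¹ by group, h, mul_one, mul_inv_cancel]
      · rw [show R * T * R⁻¹ * (R * T * R⁻¹) = R * (T * T) * R⁻¹ by group, h, ← (hcz R).eq,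
          mul_inv_cancel_right]
    · rw [(hcz _).mul_mul_mul_comm, hzz, mul_one]
      rcases hTT with h | h
      · rw [show R * T * R⁻¹ * (R * T * R⁻¹) = R * (T * T) * R⁻¹ by group, h, mul_one, mul_inv_cancel]
      · rw [show R * T * R⁻¹ * (R * T * R⁻¹) = R * (T * T) * R⁻¹ by group, h, ← (hcz R).eq,
          mul_inv_cancel_right]
  obtain ⟨a₁, a₂, a₃, a₄, a₅, a₆, a₇, hD7, hc7, hprod⟩ := exists_seven_relation S hF hM
  obtain ⟨R₁, h₁⟩ := hsurj a₁
  obtain ⟨R₂, h₂⟩ := hsurj a₂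
  obtain ⟨R₃, h₃⟩ := hsurj a₃
  obtain ⟨R₄, h₄⟩ := hsurj a₄
  obtain ⟨R₅, h₅⟩ := hsurj a₅
  obtain ⟨R₆, h₆⟩ := hsurj a₆
  obtain ⟨R₇, h₇⟩ := hsurj a₇
  have cm : ∀ {x y : G} {P Q : H}, x ∈ [a₁, a₂, a₃, a₄, a₅, a₆, a₇] → y ∈ [a₁, a₂, a₃, a₄, a₅, a₆, a₇] →
      π P = x → π Q = y → Commute P Q := fun hx hy hP hQ =>
    commute_lift S hF hM hsurj hker hπz hcz hzz (hD7 _ hx) (hD7 _ hy) (hc7 _ hx _ hy) hP hQ
  have c2 : Commute R₂ R₁ := cm (by simp) (by simp) h₂ h₁
  have c3 : Commute R₃ (R₁ * R₂) := (cm (by simp) (by simp) h₃ h₁).mul_right (cm (by simp) (by simp) h₃ h₂)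
  have c4 : Commute R₄ (R₁ * R₂ * R₃) := ((cm (by simp) (by simp) h₄ h₁).mul_right
    (cm (by simp) (by simp) h₄ h₂)).mul_right (cm (by simp) (by simp) h₄ h₃)
  have c5 : Commute R₅ (R₁ * R₂ * R₃ * R₄) := (((cm (by simp) (by simp) h₅ h₁).mul_right
    (cm (by simp) (by simp) h₅ h₂)).mul_right (cm (by simp) (by simp) h₅ h₃)).mul_right
    (cm (by simp) (by simp) h₅ h₄)
  have c6 : Commute R₆ (R₁ * R₂ * R₃ * R₄ * R₅) := ((((cm (by simp) (by simp) h₆ h₁).mul_right
    (cm (by simp) (by simp) h₆ h₂)).mul_right (cm (by simp) (by simp) h₆ h₃)).mul_right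
    (cm (by simp) (by simp) h₆ h₄)).mul_right (cm (by simp) (by simp) h₆ h₅)
  have c7 : Commute R₇ (R₁ * R₂ * R₃ * R₄ * R₅ * R₆) := (((((cm (by simp) (by simp) h₇ h₁).mul_right
    (cm (by simp) (by simp) h₇ h₂)).mul_right (cm (by simp) (by simp) h₇ h₃)).mul_right
    (cm (by simp) (by simp) h₇ h₄)).mul_right (cm (by simp) (by simp) h₇ h₅)).mul_right
    (cm (by simp) (by simp) h₇ h₆)
  have hP : (R₁ * R₂ * R₃ * R₄ * R₅ * R₆ * R₇) * (R₁ * R₂ * R₃ * R₄ * R₅ * R₆ * R₇) = 1 := by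
    rcases hker _ (show π (R₁ * R₂ * R₃ * R₄ * R₅ * R₆ * R₇) = 1 by
      simp only [map_mul, h₁, h₂, h₃, h₄, h₅, h₆, h₇]; exact hprod) with h | h <;> rw [h]
    · exact one_mul 1
    · exact hzz
  rw [c7.mul_mul_mul_comm, c6.mul_mul_mul_comm, c5.mul_mul_mul_comm, c4.mul_mul_mul_comm,
    c3.mul_mul_mul_comm, c2.mul_mul_mul_comm, hs (hD7 _ (by simp)) h₁, hs (hD7 _ (by simp)) h₂,
    hs (hD7 _ (by simp)) h₃, hs (hD7 _ (by simp)) h₄, hs (hD7 _ (by simp)) h₅, hs (hD7 _ (by simp)) h₆,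
    hs (hD7 _ (by simp)) h₇] at hP
  have h2 : T * T * (T * T) = 1 := by
    rcases hker (T * T) (by rw [map_mul, hT, S.sqd ha]) with h | h <;> rw [h]
    · exact one_mul 1
    · exact hzz
  rwa [mul_assoc (T * T), h2, mul_one, mul_assoc (T * T), h2, mul_one, mul_assoc (T * T), h2, mul_one] at hP

/-- Every involution lifts to an involution. -/
theorem exists_lift {x : G} (hx : orderOf x = 2) : ∃ h : H, π h = x ∧ orderOf h = 2 := by
  suffices h : ∃ h : H, π h = x ∧ h * h = 1 by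
    obtain ⟨h, hh, hh2⟩ := h
    refine ⟨h, hh, orderOf_eq_prime (by rw [pow_two, hh2]) fun h1 => ?_⟩
    rw [← hh, h1, map_one, orderOf_one] at hx
    norm_num at hx
  rcases invol_cases S hF hM hx with hxD | ⟨a, b, ha, hb, rfl⟩ | ⟨a, b, c, T, rfl⟩
  · obtain ⟨h, hh⟩ := hsurj x
    exact ⟨h, hh, sq_lift S hF hM hsurj hker hπz hcz hzz hxD hh⟩
  · obtain ⟨A, hA⟩ := hsurj a
    obtain ⟨B, hB⟩ := hsurj b
    refine ⟨A * B, by rw [map_mul, hA, hB], ?_⟩
    rw [(commute_lift S hF hM hsurj hker hπz hcz hzz hb.1 ha hb.2.2.symm hB hA).mul_mul_mul_comm,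
      sq_lift S hF hM hsurj hker hπz hcz hzz ha hA, sq_lift S hF hM hsurj hker hπz hcz hzz hb.1 hB, one_mul]
  · obtain ⟨A, hA⟩ := hsurj a
    obtain ⟨B, hB⟩ := hsurj b
    obtain ⟨C, hC⟩ := hsurj c
    refine ⟨A * B * C, by rw [map_mul, map_mul, hA, hB, hC], ?_⟩
    have c1 := commute_lift S hF hM hsurj hker hπz hcz hzz T.hb T.ha T.cab.symm hB hA
    have c2 : Commute C (A * B) := (commute_lift S hF hM hsurj hker hπz hcz hzz T.hc T.ha T.cac.symm hC hA).mul_right
      (commute_lift S hF hM hsurj hker hπz hcz hzz T.hc T.hb T.cbc.symm hC hB)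
    rw [c2.mul_mul_mul_comm, c1.mul_mul_mul_comm, sq_lift S hF hM hsurj hker hπz hcz hzz T.ha hA,
      sq_lift S hF hM hsurj hker hπz hcz hzz T.hb hB, sq_lift S hF hM hsurj hker hπz hcz hzz T.hc hC, one_mul, one_mul]

end CfsgLib.M22
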