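import Cfsg.Agent.Lib.ThreeTransp.U6Lines
import Cfsg.Agent.Lib.ThreeTransp.U6Ovals
import Cfsg.Agent.Lib.ThreeTransp.U6Perp
import Cfsg.Agent.Lib.Known.UnitaryInvolution

/-!
# Double covers of `PSU₆(2)`: every involution lifts to an involution

The five transvections of an isotropic line have product one.  So the commutator of two commuting lifts, which
does not depend on the line, and the square of a lift, which is the same for all transvections, are trivial.
-/

set_option autoImplicit false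

namespace CfsgLib.U6

open Cfsg
open CfsgLib.PSUAut (Isot act)
open CfsgLib.UnitarySpec (psuMk)

variable {F : Type} [Field F] [Fintype F]

local notation "V6" => Fin 6 → F
local notation "H6" => Cfsg.hermForm 6 F 2
local notation "PSU6" => (Cfsg.PSU 6 F 2)

/-- A surjection onto `PSU₆(2)` with central kernel of order at most two. -/
structure DCover {H : Type*} [Group H] (π : H →* Cfsg.PSU 6 F 2) (z : H) : Prop where
  surj : Function.Surjective π
  ker : ∀ h, π h = 1 → h = 1 ∨ h = z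
  map_z : π z = 1
  cent : ∀ h, Commute z h
  sq : z * z = 1

variable {H : Type*} [Group H] {π : H →* Cfsg.PSU 6 F 2} {z : H}

theorem pt_mul_self (hF : Fintype.card F = 2 ^ 2) {x : PSU6} {u : V6} (hx : IsPt x u) : x * x = 1 := by
  obtain ⟨hu, t, ht, rfl⟩ := hx
  have : t * t = 1 := PSUAut.act_ext fun y => by
    rw [PSUAut.act_mul, ht, ht, PSUAut.act_one, add_left hF, smul_left hF, hu.2, mul_zero, add_zero,
      add_assoc, vadd_self hF, add_zero]
  rw [← map_mul, this, map_one]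

namespace DCover

variable (W : DCover π z)
include W

theorem eq_or {h k : H} (e : π h = π k) : k = h ∨ k = h * z := by
  rcases W.ker (h⁻¹ * k) (by rw [map_mul, map_inv, e, inv_mul_cancel]) with h1 | h1
  · exact Or.inl (inv_mul_eq_one.1 h1).symm
  · exact Or.inr (inv_mul_eq_iff_eq_mul.1 h1)

theorem cancel_z (k : H) : z * (z * k) = k := by rw [← mul_assoc, W.sq, one_mul]

theorem sq_eq {h k : H} (e : π h = π k) : k * k = h * h := by
  rcases W.eq_or e with rfl | rfl
  · rfl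
  · rw [(W.cent h).mul_mul_mul_comm, W.sq, mul_one]

theorem commute_iff {h k h' k' : H} (e : π h = π h') (e' : π k = π k') : Commute h' k' ↔ Commute h k := by
  have key : ∀ {h k h' k' : H}, π h = π h' → π k = π k' → Commute h k → Commute h' k' := by
    intro h k h' k' e e' hc
    rcases W.eq_or e with rfl | rfl <;> rcases W.eq_or e' with rfl | rfl
    · exact hc
    · exact hc.mul_right (W.cent _).symm
    · exact hc.mul_left (W.cent _)
    · exact (hc.mul_left (W.cent _)).mul_right ((W.cent _).symm.mul_left (W.cent _))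
  exact ⟨key e.symm e'.symm, key e e'⟩

variable (hF : Fintype.card F = 2 ^ 2)
include hF

/-- Lifts of two orthogonal points commute. -/
theorem commute_lift {x y : PSU6} {u v : V6} (hx : IsPt x u) (hy : IsPt y v) (huv : H6 u v = 0)
    {T U : H} (hT : π T = x) (hU : π U = y) : Commute T U := by
  classical
  by_cases hne : x = y
  · subst hne
    rcases W.eq_or (hT.trans hU.symm) with rfl | rfl
    · exact Commute.refl _
    · exact (Commute.refl T).mul_right (W.cent T).symm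
  by_contra hnc
  -- conjugation by a point orthogonal to `u` preserves non-commutation
  have move : ∀ {a m b : V6} {A M B : PSU6}, IsPt A a → IsPt M m → IsPt B b → H6 m u = 0 →
      B = M * A * M⁻¹ → ∀ {U U' : H}, π U = A → π U' = B → ¬ Commute T U → ¬ Commute T U' := by
    intro a m b A M B _ hM _ hmu hB U U' hU hU' hn hc
    apply hn
    obtain ⟨R, hR⟩ := W.surj M
    have e1 : π (R⁻¹ * T * R) = π T := by
      have hcm := ((IsPt.commute_iff hF hM hx).2 hmu).inv_left
      rw [map_mul, map_mul, map_inv, hR, hT, hcm.eq, mul_assoc, inv_mul_cancel, mul_one]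
    have e2 : π (R⁻¹ * U' * R) = π U := by
      rw [map_mul, map_mul, map_inv, hR, hU, hU', hB]; group
    exact (W.commute_iff e1 e2).2 (by simpa using (Commute.conj_iff R⁻¹).2 hc)
  have step : ∀ {a b : V6} {A B : PSU6}, IsPt A a → IsPt B b → H6 a u = 0 → H6 b u = 0 → H6 a b ≠ 0 →
      ∀ {U U' : H}, π U = A → π U' = B → ¬ Commute T U → ¬ Commute T U' := by
    intro a b A B ha hb hau hbu hab U U' hU hU' hn
    set c := H6 a b
    have hba : H6 b a = c ^ 2 := conj_form hF a b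
    have hw : Isot 2 (a + c • b) := by
      refine ⟨fun h => hab ?_, ?_⟩
      · have := congrArg (fun t => H6 t b) h
        simpa [add_left hF, smul_left hF, hb.1.2, zero_left hF] using this
      · simp only [add_left hF, add_right hF, smul_left hF, smul_right hF, ha.1.2, hb.1.2, hba, mul_zero,
          add_zero, zero_add]
        rw [show c ^ 2 * c + c * c ^ 2 = c ^ 3 + c ^ 3 by ring]
        exact add_self hF _
    obtain ⟨M, hM⟩ := exists_pt hF hw
    obtain ⟨-, t, ht, htM⟩ := id hM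
    have hA := ha.conj hF t
    rw [ht, htM] at hA
    have e : a + H6 a (a + c • b) • (a + c • b) = c • b := by
      rw [add_right hF, smul_right hF, ha.1.2, zero_add, show c ^ 2 * H6 a b = c ^ 3 by ring,
        cube_eq_one hF hab, one_smul, ← add_assoc, vadd_self hF, zero_add]
    rw [e] at hA
    refine move ha hM hb ?_ (IsPt.unique hF (hb.smul hF hab) hA) hU hU' hn
    rw [add_left hF, smul_left hF, hau, hbu, mul_zero, add_zero]
  have notspan : ∀ {b : V6} {B : PSU6}, IsPt B b → B ≠ x → b ∉ Submodule.span F {u} := fun hb hne =>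
    IsPt.notMem_span hF hx hb hne.symm
  have all : ∀ {b : V6} {B : PSU6}, IsPt B b → H6 b u = 0 → B ≠ x → ∀ {U' : H}, π U' = B → ¬ Commute T U' := by
    intro b B hb hbu hBx U' hU'
    by_cases hvb : H6 v b = 0
    swap
    · exact step hy hb ((comm_zero hF).1 huv) hbu hvb hU hU' hnc
    have avoid : ∀ {t : V6}, t ∉ Submodule.span F {u} → ∃ g₁, H6 g₁ u = 0 ∧ H6 g₁ t ≠ 0 := by
      intro t ht
      obtain ⟨g₁, h1, h2⟩ := exists_perp_ne hF ![u] (z := t) (by simpa using ht)
      exact ⟨g₁, h1 0, by rw [h2]; exact one_ne_zero⟩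
    obtain ⟨g₁, g₁u, g₁v⟩ := avoid (notspan hy (Ne.symm hne))
    obtain ⟨g₂, g₂u, g₂b⟩ := avoid (notspan hb hBx)
    obtain ⟨g₃, g₃u, g₃v, g₃b⟩ : ∃ g₃, H6 g₃ u = 0 ∧ H6 g₃ v ≠ 0 ∧ H6 g₃ b ≠ 0 := by
      by_cases h1 : H6 g₁ b = 0
      · by_cases h2 : H6 g₂ v = 0
        · exact ⟨g₁ + g₂, by rw [add_left hF, g₁u, g₂u, add_zero],
            by rwa [add_left hF, h2, add_zero], by rwa [add_left hF, h1, zero_add]⟩
        · exact ⟨g₂, g₂u, h2, g₂b⟩
      · exact ⟨g₁, g₁u, g₁v, h1⟩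
    obtain ⟨σ, hσ⟩ := exists_sigma hF
    obtain ⟨t, ht1, ht2, ht3⟩ := PSUAut.exists_iso_shift hF hσ hy.1.2 (y := (H6 g₃ v)⁻¹ • g₃)
      (by rw [smul_left hF, inv_mul_cancel₀ g₃v])
    obtain ⟨M, hM⟩ := exists_pt hF (v := (H6 g₃ v)⁻¹ • g₃ + t • v) ⟨ht3, ht1⟩
    obtain ⟨R, hR⟩ := W.surj M
    have hmu : H6 ((H6 g₃ v)⁻¹ • g₃ + t • v) u = 0 := by
      rw [add_left hF, smul_left hF, smul_left hF, g₃u, (comm_zero hF).1 huv, mul_zero, mul_zero, add_zero]
    have hmb : H6 ((H6 g₃ v)⁻¹ • g₃ + t • v) b ≠ 0 := by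
      rw [add_left hF, smul_left hF, smul_left hF, hvb, mul_zero, add_zero]
      exact mul_ne_zero (inv_ne_zero g₃v) g₃b
    have hmv : H6 v ((H6 g₃ v)⁻¹ • g₃ + t • v) ≠ 0 := fun h => by
      rw [(comm_zero hF).1 h] at ht2; exact zero_ne_one ht2
    exact step hM hb hmu hbu hmb hR hU' (step hy hM ((comm_zero hF).1 huv) hmu hmv hU hR hnc)
  -- a line orthogonal to `u` and not through it
  have hv' : v ∉ Submodule.span F {u} := notspan hy (Ne.symm hne)
  obtain ⟨w, hw, hwu, hwv, hwspan⟩ := exists_plane hF hx.1 hv'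
  obtain ⟨Z, hZ⟩ := exists_pt hF hw
  have hyZ : y ≠ Z := fun h => by
    subst h
    obtain ⟨r, -, hr⟩ := IsPt.span_eq hF hy hZ
    exact hwspan (hr ▸ Submodule.smul_mem _ r (Submodule.subset_span (Set.mem_insert_of_mem _ rfl)))
  obtain ⟨x₂, x₃, x₄, w₂, w₃, w₄, h₂, h₃, h₄, s₂, s₃, s₄, -, hprod, -⟩ :=
    exists_line hF hy hZ ((comm_zero hF).1 hwv) hyZ
  have off : ∀ {b : V6} {B : PSU6}, IsPt B b → b ∈ Submodule.span F {v, w} → B ≠ x ∧ H6 b u = 0 := by
    intro b B hb sb
    obtain ⟨p, q, rfl⟩ := Submodule.mem_span_pair.1 sb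
    refine ⟨fun h => ?_, ?_⟩
    · subst h
      obtain ⟨r, hr0, hr⟩ := IsPt.span_eq hF hx hb
      by_cases hq : q = 0
      · subst hq
        rw [zero_smul, add_zero] at hr
        have hp : p ≠ 0 := fun h => hx.1.1 (by
          rw [h, zero_smul] at hr
          exact (smul_eq_zero.1 hr.symm).resolve_left hr0)
        exact hv' (Submodule.mem_span_singleton.2 ⟨p⁻¹ * r, by rw [mul_smul, ← hr, inv_smul_smul₀ hp]⟩)
      · refine hwspan (Submodule.mem_span_pair.2 ⟨q⁻¹ * r, -(q⁻¹ * p), ?_⟩)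
        rw [mul_smul, ← hr, smul_add, inv_smul_smul₀ hq, smul_smul, neg_smul]
        abel
    · rw [add_left hF, smul_left hF, smul_left hF, (comm_zero hF).1 huv, hwu, mul_zero, mul_zero, add_zero]
  have flip : ∀ {b : V6} {B : PSU6}, IsPt B b → b ∈ Submodule.span F {v, w} → ∀ {U' : H}, π U' = B →
      T * U' = U' * T * z := by
    intro b B hb sb U' hU'
    obtain ⟨hBx, hbu⟩ := off hb sb
    have hπ : π (U' * T) = π (T * U') := by
      rw [map_mul, map_mul, hU', hT]
      exact ((IsPt.commute_iff hF hb hx).2 hbu).eq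
    exact (W.eq_or hπ).resolve_left (all hb hbu hBx hU')
  obtain ⟨R₁, hR₁⟩ := W.surj y
  obtain ⟨R₂, hR₂⟩ := W.surj Z
  obtain ⟨R₃, hR₃⟩ := W.surj x₂
  obtain ⟨R₄, hR₄⟩ := W.surj x₃
  obtain ⟨R₅, hR₅⟩ := W.surj x₄
  have e1 := flip hy (Submodule.subset_span (Set.mem_insert _ _)) hR₁
  have e2 := flip hZ (Submodule.subset_span (Set.mem_insert_of_mem _ rfl)) hR₂
  have e3 := flip h₂ s₂ hR₃
  have e4 := flip h₃ s₃ hR₄
  have e5 := flip h₄ s₄ hR₅
  have hz5 : z ^ 5 = z := by simp only [pow_succ, pow_zero, one_mul, W.sq]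
  have mv : ∀ {R Q : H}, T * R = R * T * z → T * Q = Q * T * z →
      ∀ k : H, T * (R * k) = R * (T * k) * z := fun {R Q} h _ k => by
    rw [← mul_assoc, h]; simp only [mul_assoc]; rw [(W.cent k).eq]
  have hflip : T * (R₁ * R₂ * R₃ * R₄ * R₅) = R₁ * R₂ * R₃ * R₄ * R₅ * T * z ^ 5 := by
    rw [hz5]
    simp only [mul_assoc]
    rw [mv e1 e1, mv e2 e2, mv e3 e3, mv e4 e4, e5]
    simp only [mul_assoc]
    simp only [W.cancel_z]
  have hcen : Commute T (R₁ * R₂ * R₃ * R₄ * R₅) := by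
    rcases W.ker _ (show π (R₁ * R₂ * R₃ * R₄ * R₅) = 1 by
      simp only [map_mul, hR₁, hR₂, hR₃, hR₄, hR₅]; exact hprod) with h | h
    · rw [h]; exact Commute.one_right T
    · rw [h]; exact (W.cent T).symm
  have hz1 : z = 1 := by
    rw [hcen.eq, hz5] at hflip
    exact left_eq_mul.1 hflip
  apply hnc
  have := flip hy (Submodule.subset_span (Set.mem_insert _ _)) hU
  rw [hz1, mul_one] at this
  exact this

/-- The lift of a point squares to one. -/
theorem sq_lift {x : PSU6} {u : V6} (hx : IsPt x u) {T : H} (hT : π T = x) : T * T = 1 := by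
  have hs : ∀ {y : PSU6} {v : V6}, IsPt y v → ∀ {U : H}, π U = y → U * U = T * T := by
    intro y v hy U hU
    obtain ⟨g, rfl⟩ := IsPt.exists_conj hF hx hy
    obtain ⟨R, rfl⟩ := W.surj g
    rw [W.sq_eq (show π (R * T * R⁻¹) = π U by rw [hU, map_mul, map_mul, map_inv, hT]),
      show R * T * R⁻¹ * (R * T * R⁻¹) = R * (T * T) * R⁻¹ by group]
    have hxx : x * x = 1 := pt_mul_self hF hx
    rcases W.ker (T * T) (by rw [map_mul, hT, hxx]) with h | h
    · rw [h, mul_one, mul_inv_cancel]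
    · rw [h, ← (W.cent R).eq, mul_inv_cancel_right]
  obtain ⟨v, hv, huv, hvu⟩ := exists_perp_point hF hx.1
  obtain ⟨y, hy⟩ := exists_pt hF hv
  have hne : x ≠ y := fun h => by
    subst h
    obtain ⟨r, -, hr⟩ := IsPt.span_eq hF hx hy
    exact hvu r hr
  obtain ⟨x₂, x₃, x₄, w₂, w₃, w₄, h₂, h₃, h₄, s₂, s₃, s₄, -, hprod, -⟩ := exists_line hF hx hy huv hne
  obtain ⟨R₂, hR₂⟩ := W.surj y
  obtain ⟨R₃, hR₃⟩ := W.surj x₂
  obtain ⟨R₄, hR₄⟩ := W.surj x₃
  obtain ⟨R₅, hR₅⟩ := W.surj x₄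
  have mu : u ∈ Submodule.span F {u, v} := Submodule.subset_span (Set.mem_insert _ _)
  have mv : v ∈ Submodule.span F {u, v} := Submodule.subset_span (Set.mem_insert_of_mem _ rfl)
  have cm : ∀ {A B : PSU6} {a b : V6}, IsPt A a → IsPt B b → a ∈ Submodule.span F {u, v} →
      b ∈ Submodule.span F {u, v} → ∀ {P Q : H}, π P = A → π Q = B → Commute P Q :=
    fun hA hB ha hb _ _ hP hQ =>
      W.commute_lift hF hA hB (perp_of_mem_span hF hx.1.2 hv.2 huv ha hb) hP hQ
  have c2 : Commute R₂ T := cm hy hx mv mu hR₂ hT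
  have c3 : Commute R₃ (T * R₂) := (cm h₂ hx s₂ mu hR₃ hT).mul_right (cm h₂ hy s₂ mv hR₃ hR₂)
  have c4 : Commute R₄ (T * R₂ * R₃) :=
    ((cm h₃ hx s₃ mu hR₄ hT).mul_right (cm h₃ hy s₃ mv hR₄ hR₂)).mul_right (cm h₃ h₂ s₃ s₂ hR₄ hR₃)
  have c5 : Commute R₅ (T * R₂ * R₃ * R₄) :=
    (((cm h₄ hx s₄ mu hR₅ hT).mul_right (cm h₄ hy s₄ mv hR₅ hR₂)).mul_right
      (cm h₄ h₂ s₄ s₂ hR₅ hR₃)).mul_right (cm h₄ h₃ s₄ s₃ hR₅ hR₄)
  have hP : (T * R₂ * R₃ * R₄ * R₅) * (T * R₂ * R₃ * R₄ * R₅) = 1 := by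
    rcases W.ker _ (show π (T * R₂ * R₃ * R₄ * R₅) = 1 by
      simp only [map_mul, hT, hR₂, hR₃, hR₄, hR₅]; exact hprod) with h | h <;> rw [h]
    · exact one_mul 1
    · exact W.sq
  rw [c5.mul_mul_mul_comm, c4.mul_mul_mul_comm, c3.mul_mul_mul_comm, c2.mul_mul_mul_comm,
    hs hy hR₂, hs h₂ hR₃, hs h₃ hR₄, hs h₄ hR₅] at hP
  have h2 : T * T * (T * T) = 1 := by
    rcases W.ker (T * T) (by rw [map_mul, hT, pt_mul_self hF hx]) with h | h <;> rw [h]
    · exact one_mul 1
    · exact W.sq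
  rw [mul_assoc (T * T), h2, mul_one, mul_assoc (T * T), h2, mul_one] at hP
  exact hP

/-- A product of commuting transvections lifts to an element of order at most two. -/
theorem exists_sq_lift : ∀ (k : ℕ) (f : Fin k → V6) (T : Cfsg.SU 6 F 2), (∀ i, Isot 2 (f i)) →
    (∀ i j, H6 (f i) (f j) = 0) → (∀ y, act T y = y + ∑ i, H6 y (f i) • f i) →
    ∃ h : H, π h = psuMk T ∧ h * h = 1 ∧ ∀ (x : PSU6) (u : V6), IsPt x u → (∀ i, H6 (f i) u = 0) →
      ∀ R : H, π R = x → Commute h R := by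
  intro k
  induction k with
  | zero =>
    intro f T _ _ hT
    have hT1 : T = 1 := PSUAut.act_ext fun y => by rw [hT, PSUAut.act_one]; simp
    exact ⟨1, by rw [hT1, map_one, map_one], one_mul 1, fun _ _ _ _ R _ => Commute.one_left R⟩
  | succ k ih =>
    intro f T hi hff hT
    obtain ⟨X, hX⟩ := exists_pt hF (hi (Fin.last k))
    obtain ⟨-, s, hs, hsX⟩ := id hX
    obtain ⟨U, hU⟩ := W.surj X
    obtain ⟨h, hh, hh2, hcomm⟩ := ih (fun i => f i.castSucc) (T * s) (fun i => hi _) (fun i j => hff _ _)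
      fun y => by
        rw [PSUAut.act_mul, hs, hT, Fin.sum_univ_castSucc]
        simp only [add_left hF, smul_left hF, hff, mul_zero, add_zero]
        rw [show y + H6 y (f (Fin.last k)) • f (Fin.last k) + (∑ i : Fin k, H6 y (f i.castSucc) • f i.castSucc +
          H6 y (f (Fin.last k)) • f (Fin.last k)) = y + ∑ i : Fin k, H6 y (f i.castSucc) • f i.castSucc +
          (H6 y (f (Fin.last k)) • f (Fin.last k) + H6 y (f (Fin.last k)) • f (Fin.last k)) by abel,
          vadd_self hF, add_zero]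
    have hc : Commute h U := hcomm X _ hX (fun i => hff _ _) U hU
    refine ⟨h * U, ?_, ?_, fun x u hx hu R hR => ?_⟩
    · rw [map_mul, hh, hU, ← hsX, ← map_mul, mul_assoc, show s * s = 1 from PSUAut.act_ext fun y => by
        rw [PSUAut.act_mul, hs, hs, PSUAut.act_one, add_left hF, smul_left hF, hff, mul_zero, add_zero,
          add_assoc, vadd_self hF, add_zero], mul_one]
    · rw [hc.symm.mul_mul_mul_comm, hh2, W.sq_lift hF hX hU, one_mul]
    · exact (hcomm x u hx (fun i => hu _) R hR).mul_left (W.commute_lift hF hX hx (hu _) hU hR)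

/-- Every involution lifts to an involution. -/
theorem exists_lift {x : PSU6} (hx : x * x = 1) (hx1 : x ≠ 1) : ∃ h : H, π h = x ∧ orderOf h = 2 := by
  obtain ⟨T, hT, hTT⟩ := exists_invol_lift hF hx
  let N : V6 →ₗ[F] V6 := ((T.1 : Matrix (Fin 6) (Fin 6) F) - 1).mulVecLin
  have hNy : ∀ y, N y = act T y + y := by
    intro y
    show Matrix.mulVec ((T.1 : Matrix (Fin 6) (Fin 6) F) - 1) y = _
    rw [Matrix.sub_mulVec, Matrix.one_mulVec, sub_eq_iff_eq_add, add_assoc, vadd_self hF, add_zero]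
    rfl
  have hTy : ∀ y, act T y = y + N y := fun y => by
    rw [hNy, ← add_assoc, add_comm y (act T y), add_assoc, vadd_self hF, add_zero]
  have hTT' : ∀ y, act T (act T y) = y := fun y => by rw [← PSUAut.act_mul, hTT, PSUAut.act_one]
  have hN : ∀ y, N (N y) = 0 := fun y => by
    rw [hNy, hNy, PSUAut.act_add, hTT', add_comm y (act T y)]
    exact vadd_self hF _
  have hadj : ∀ u v, H6 v (N u) = H6 (N v) u := by
    intro u v
    rw [hNy, hNy, add_right hF, add_left hF]
    congr 1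
    rw [← PSUAut.act_form T, hTT']
  obtain ⟨k, f, -, hfl, hff, hNf, -⟩ := CfsgLib.Known.UnitaryInvolution.exists_frame hF N hN hadj
  obtain ⟨h, hh, hh2, -⟩ := W.exists_sq_lift hF k f T (fun i => ⟨hfl.ne_zero i, hff i i⟩) hff
    fun y => by rw [hTy, hNf]
  refine ⟨h, hh.trans hT, orderOf_eq_prime (by rw [pow_two, hh2]) fun h1 => hx1 ?_⟩
  rw [← hT, ← hh, h1, map_one]

end DCover

end CfsgLib.U6
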